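import Mathlib

/-!
# Maps from spectra of local domains: factorisation through affine opens, and uniqueness
-/

set_option autoImplicit false
set_option linter.style.haveILetI false

universe u

open CategoryTheory CategoryTheory.Limits AlgebraicGeometry IsLocalRing

namespace Groth.Agent.H26.AbExt

variable {X : Scheme.{u}} {T : Type u} [CommRing T] [IsLocalRing T]

/-- A map from the spectrum of a local ring factors through an affine open containing the image of
the closed point. -/
theorem exists_ringHom {W : X.Opens} (hW : IsAffineOpen W) (f : Spec (CommRingCat.of T) ⟶ X)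
    (hf : f (closedPoint T) ∈ W) :
    ∃ χ : Γ(X, W) ⟶ CommRingCat.of T, Spec.map χ ≫ hW.fromSpec = f := by
  have hr : Set.range f ⊆ Set.range hW.fromSpec := by
    rw [hW.range_fromSpec]
    rintro _ ⟨q, rfl⟩
    exact ((IsLocalRing.specializes_closedPoint q).map f.continuous).mem_open W.2 hf
  exact ⟨Spec.preimage (IsOpenImmersion.lift hW.fromSpec f hr), by
    rw [Spec.map_preimage, IsOpenImmersion.lift_fac]⟩

/-- Two maps into `X` from the spectrum of a local ring, meeting an affine open at the closed point,
agree if they agree after an injection. -/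
theorem ext_of_injective {L : Type u} [CommRing L] (ι : T →+* L) (hι : Function.Injective ι)
    {W : X.Opens} (hW : IsAffineOpen W) (f g : Spec (CommRingCat.of T) ⟶ X)
    (hf : f (closedPoint T) ∈ W) (hg : g (closedPoint T) ∈ W)
    (h : Spec.map (CommRingCat.ofHom ι) ≫ f = Spec.map (CommRingCat.ofHom ι) ≫ g) : f = g := by
  obtain ⟨a, rfl⟩ := exists_ringHom hW f hf
  obtain ⟨b, rfl⟩ := exists_ringHom hW g hg
  simp only [← Category.assoc, ← Spec.map_comp, cancel_mono] at h
  have h' := Spec.map_injective h
  congr 2
  ext c
  exact hι (congrArg (fun k : Γ(X, W) ⟶ CommRingCat.of L => k.hom c) h')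

/-- Maps over a base into a separated scheme over it, from the spectrum of a domain, agree if they
agree at the generic point. -/
theorem ext_generic {S : Scheme.{u}} (p : X ⟶ S) [IsSeparated p] {T : Type u} [CommRing T] [IsDomain T]
    {L : Type u} [CommRing L] (ι : T →+* L) (hι : Function.Injective ι)
    (f g : Spec (CommRingCat.of T) ⟶ X) (hfg : f ≫ p = g ≫ p)
    (h : Spec.map (CommRingCat.ofHom ι) ≫ f = Spec.map (CommRingCat.ofHom ι) ≫ g) : f = g := by
  haveI : IsReduced (Spec (CommRingCat.of T)) := inferInstance
  haveI : IsDominant (Spec.map (CommRingCat.ofHom ι)) := ⟨by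
    show DenseRange (PrimeSpectrum.comap ι)
    rw [PrimeSpectrum.denseRange_comap_iff_ker_le_nilRadical]
    rw [(RingHom.injective_iff_ker_eq_bot _).1 hι]
    exact bot_le⟩
  exact ext_of_isDominant_of_isSeparated p hfg (Spec.map (CommRingCat.ofHom ι)) h

end Groth.Agent.H26.AbExt
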