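import Groth.Agent.H23.RatProductK
import Groth.Agent.H23.RatExtend
import Groth.Agent.H23.MaxAbelian
import Groth.Agent.H23.RigidGamma

/-!
# Purely transcendental points of abelian schemes are constant
-/

set_option autoImplicit false
set_option linter.style.haveILetI false

universe u

open CategoryTheory CategoryTheory.Limits AlgebraicGeometry Polynomial MonoidalCategory

namespace Groth.Agent.H26.AbExt

open Groth.Agent.H23

theorem exists_const {S : Scheme.{u}} (A : Over S) [GrpObj A] [IsProper A.hom] [Smooth A.hom]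
    [GeometricallyConnected A.hom] (L : Type u) [Field L] (σ : Spec (CommRingCat.of L) ⟶ S)
    (Ω : Type u) [Field Ω] [Algebra L Ω] [Algebra L[X] Ω] [IsScalarTower L L[X] Ω]
    [IsFractionRing L[X] Ω] (g : Spec (CommRingCat.of Ω) ⟶ A.left)
    (hg : g ≫ A.hom = Spec.map (CommRingCat.ofHom (algebraMap L Ω)) ≫ σ) :
    ∃ a : Spec (CommRingCat.of L) ⟶ A.left,
      g = Spec.map (CommRingCat.ofHom (algebraMap L Ω)) ≫ a := by
  let R : CommRingCat.{u} := CommRingCat.of L[X]
  let P := Spec R
  haveI : IsDomain R := inferInstanceAs (IsDomain L[X])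
  let η := genericPoint P
  let F := P.presheaf.stalk η
  letI : Algebra L[X] F := (StructureSheaf.toStalk R η).hom.toAlgebra
  haveI : IsFractionRing L[X] F := functionField_isFractionRing_of_affine R
  let e : Ω ≃ₐ[L[X]] F := IsLocalization.algEquiv (nonZeroDivisors L[X]) Ω F
  let sP : P ⟶ Spec (CommRingCat.of L) := Spec.map (CommRingCat.ofHom (algebraMap L L[X]))
  have hη : P.fromSpecStalk η = Spec.map (CommRingCat.ofHom (algebraMap L[X] F)) :=
    Scheme.Spec_fromSpecStalk' R η
  let eh : CommRingCat.of Ω ⟶ F := CommRingCat.ofHom (e : Ω →+* F)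
  have heh : Spec.map eh ≫ Spec.map (CommRingCat.ofHom (algebraMap L Ω)) = P.fromSpecStalk η ≫ sP := by
    rw [hη, ← Spec.map_comp, ← Spec.map_comp]
    congr 1
    ext c
    show e (algebraMap L Ω c) = algebraMap L[X] F (algebraMap L L[X] c)
    rw [IsScalarTower.algebraMap_apply L L[X] Ω, e.commutes]
  let G := (Over.pullback σ).obj A
  let sX : G.left ⟶ Spec (CommRingCat.of L) := pullback.snd A.hom σ
  haveI : IsProper sX := inferInstance
  haveI : G.left.IsSeparated :=
    ⟨by rw [show terminal.from G.left = sX ≫ terminal.from _ from (terminal.comp_from sX).symm]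
        exact inferInstance⟩
  let φ₀ : Spec (P.presheaf.stalk η) ⟶ G.left :=
    pullback.lift (Spec.map eh ≫ g) (P.fromSpecStalk η ≫ sP) (by
      rw [Category.assoc, hg, ← heh, Category.assoc])
  have h₀ : φ₀ ≫ sX = P.fromSpecStalk η ≫ sP := pullback.lift_snd _ _ _
  have hval : ∀ p : P, ValuationRing (P.presheaf.stalk p) := fun p => by
    let q : PrimeSpectrum L[X] := p
    haveI : ValuationRing (Localization.AtPrime q.asIdeal) := RatExtend.valuationRing_atPrime _
    haveI : IsDomain (Localization.AtPrime q.asIdeal) :=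
      IsLocalization.isDomain_localization (Ideal.primeCompl_le_nonZeroDivisors _)
    let e' : Localization.AtPrime q.asIdeal ≃+* (Spec (CommRingCat.of L[X])).presheaf.stalk p :=
      (StructureSheaf.stalkIso L[X] q).toRingEquiv
    haveI : IsDomain ((Spec (CommRingCat.of L[X])).presheaf.stalk p) :=
      e'.symm.injective.isDomain e'.symm.toRingHom
    exact RatExtend.valuationRing_of_ringEquiv e'
  obtain ⟨W, hgW, H, hT, hH, hH₀⟩ := RatExtend.extend sP sX φ₀ h₀ Set.univ
    fun p _ => RatExtend.exists_lift sP sX φ₀ h₀ p (hval p)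
  have hW : W = ⊤ := eq_top_iff.2 fun p _ => hT trivial
  let H' : P ⟶ G.left := P.topIso.inv ≫ P.homOfLE hW.ge ≫ H
  have hH' : H' ≫ sX = sP := by
    simp only [H', Category.assoc, hH, Scheme.homOfLE_ι_assoc]
    exact P.topIso.inv_hom_id_assoc sP
  have hH'₀ : P.fromSpecStalk η ≫ H' = φ₀ := by
    rw [← hH₀]
    simp only [H', ← Category.assoc]
    congr 1
    rw [← cancel_mono W.ι]
    simp only [Category.assoc, Scheme.homOfLE_ι, Scheme.Opens.fromSpecStalkOfMem_ι]
    exact (congrArg (P.fromSpecStalk η ≫ ·) P.topIso.inv_hom_id).trans (Category.comp_id _)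
  haveI : IsProper G.hom := inferInstanceAs (IsProper (pullback.snd A.hom σ))
  haveI : Smooth G.hom := inferInstanceAs (Smooth (pullback.snd A.hom σ))
  haveI : GeometricallyConnected G.hom :=
    inferInstanceAs (GeometricallyConnected (pullback.snd A.hom σ))
  letI : GrpObj G := Functor.grpObjObj
  haveI : GeometricallyIntegral G.hom := by
    haveI : GeometricallyReduced G.hom := RigidGamma.geometricallyReduced_of_smooth G.hom
    haveI : ConnectedSpace G.left :=
      haveI : ConnectedSpace ↥(pullback G.hom (𝟙 (Spec (CommRingCat.of L)))) :=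
        GeometricallyConnected.geometrically_connectedSpace (f := G.hom) _ _ _ (.of_hasPullback _ _)
      (Scheme.Hom.homeomorph (pullback.fst G.hom (𝟙 _))).surjective.connectedSpace
        (Scheme.Hom.homeomorph (pullback.fst G.hom (𝟙 _))).continuous
    exact MaxAbelian.geometricallyIntegral_of_connected G
  let i : (RatProductK.affine L PUnit.{u+1}).left ≅ P :=
    AffineSpace.SpecIso PUnit.{u+1} (CommRingCat.of L) ≪≫
      Scheme.Spec.mapIso (MvPolynomial.pUnitAlgEquiv L).symm.toRingEquiv.toCommRingCatIso.op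
  have hi : i.hom ≫ sP = (RatProductK.affine L PUnit.{u+1}).hom := by
    show ((AffineSpace.SpecIso PUnit.{u+1} (CommRingCat.of L)).hom ≫ Spec.map _) ≫ sP = _
    rw [Category.assoc, ← Spec.map_comp]
    refine Eq.trans ?_ (Iso.hom_inv_id_assoc (AffineSpace.SpecIso PUnit.{u+1} (CommRingCat.of L)) _)
    congr 1
    refine Eq.trans ?_ (AffineSpace.SpecIso_inv_over (CommRingCat.of L)).symm
    congr 1
    apply CommRingCat.hom_ext
    exact RingHom.ext fun c => (MvPolynomial.pUnitAlgEquiv L).symm.commutes c
  obtain ⟨a, ha⟩ := RatProductK.affine_const (A := G) PUnit.{u+1}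
    (Over.homMk (i.hom ≫ H') (by rw [Category.assoc]; exact (congrArg (i.hom ≫ ·) hH').trans hi))
  have hH'c : H' = sP ≫ a.left := by
    rw [← cancel_epi i.hom]
    refine Eq.trans ?_ (Category.assoc _ _ _)
    rw [hi]
    exact congrArg CommaMorphism.left ha
  refine ⟨a.left ≫ pullback.fst A.hom σ, ?_⟩
  haveI : IsIso (Spec.map eh) := by
    haveI : IsIso eh := (ConcreteCategory.isIso_iff_bijective _).2 e.bijective
    infer_instance
  rw [← cancel_epi (Spec.map eh), ← pullback.lift_fst (f := A.hom) (g := σ) (Spec.map eh ≫ g) _ _,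
    reassoc_of% heh, ← reassoc_of% hH'c, ← Category.assoc, hH'₀]

end Groth.Agent.H26.AbExt
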