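import Groth.Agent.H26.AbExt.Quad
import Groth.Agent.H26.AbExt.Const
import Groth.Agent.Proj16.DVRFg
import Mathlib

/-!
# Specialisations of the generic value of a rational section are closed in the closed fibre
-/

set_option autoImplicit false
set_option linter.style.haveILetI false

universe u

open CategoryTheory CategoryTheory.Limits AlgebraicGeometry Polynomial IsLocalRing

namespace Groth.Agent.H26.AbExt

theorem isClosed_of_two_generators {S : Scheme.{u}} (A : Over S) [GrpObj A] [IsProper A.hom]
    [Smooth A.hom] [GeometricallyConnected A.hom]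
    {R : Type u} [CommRing R] [IsDomain R] [IsLocalRing R] [IsNoetherianRing R]
    {K : Type u} [Field K] [Algebra R K] [IsFractionRing R K]
    (x y : R) (hm : maximalIdeal R = Ideal.span {x, y}) (hR : maximalIdeal R ≠ ⊥)
    (t : Spec (CommRingCat.of R) ⟶ S)
    (φ : Spec (CommRingCat.of K) ⟶ pullback A.hom t)
    (hφ : φ ≫ pullback.snd A.hom t = Spec.map (CommRingCat.ofHom (algebraMap R K)))
    (e : ↥(pullback A.hom t)) (he : φ (closedPoint K) ⤳ e)
    (hem : pullback.snd A.hom t e = closedPoint R) : IsClosed ({e} : Set ↥(pullback A.hom t)) := by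
  let B := pullback A.hom t
  let sB := pullback.snd A.hom t
  let O := B.presheaf.stalk e
  let α : O ⟶ CommRingCat.of K := B.presheaf.stalkSpecializes he ≫ Scheme.stalkClosedPointTo φ
  let β : CommRingCat.of R ⟶ O := Spec.preimage (B.fromSpecStalk e ≫ sB)
  have hα : Spec.map α ≫ B.fromSpecStalk e = φ := by
    rw [Spec.map_comp, Category.assoc, Scheme.SpecMap_stalkSpecializes_fromSpecStalk,
      Scheme.Spec_stalkClosedPointTo_fromSpecStalk]
  have hβ : Spec.map β = B.fromSpecStalk e ≫ sB := Spec.map_preimage _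
  have hαβ : β ≫ α = CommRingCat.ofHom (algebraMap R K) := Spec.map_injective (by
    rw [Spec.map_comp, hβ, ← Category.assoc, hα, hφ])
  have hβl : ∀ r ∈ maximalIdeal R, β.hom r ∈ maximalIdeal O := fun r hr => by
    have h1 : Spec.map β (closedPoint O) = closedPoint R := by
      rw [hβ, Scheme.Hom.comp_apply, Scheme.fromSpecStalk_closedPoint]
      exact hem
    have h2 : (maximalIdeal O).comap β.hom = maximalIdeal R := congrArg PrimeSpectrum.asIdeal h1
    rw [← h2] at hr
    exact hr
  letI : Algebra O K := α.hom.toAlgebra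
  letI : Algebra R O := β.hom.toAlgebra
  haveI : IsScalarTower R O K := IsScalarTower.of_algebraMap_eq fun r =>
    (congrArg (fun f : CommRingCat.of R ⟶ CommRingCat.of K => f.hom r) hαβ).symm
  haveI : Algebra.EssFiniteType R K := Algebra.EssFiniteType.of_isLocalization K (nonZeroDivisors R)
  haveI : Algebra.EssFiniteType O K := Algebra.EssFiniteType.of_comp R O K
  haveI : IsLocallyNoetherian B := LocallyOfFiniteType.isLocallyNoetherian sB
  haveI : IsNoetherianRing O := inferInstanceAs (IsNoetherianRing (B.presheaf.stalk e))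
  obtain ⟨r₀, hr₀, hr₀0⟩ := Submodule.exists_mem_ne_zero_of_ne_bot hR
  obtain ⟨V, hV, hOV, hloc⟩ := Proj16.exists_dvr_dominating O K ⟨β.hom r₀, hβl r₀ hr₀, by
    show algebraMap O K (algebraMap R O r₀) ≠ 0
    rw [← IsScalarTower.algebraMap_apply R O K]
    exact fun h => hr₀0 (IsFractionRing.injective R K (by rw [h, map_zero]))⟩
  let ιO : O →+* V := (algebraMap O K).codRestrict V.toSubring hOV
  haveI : IsLocalHom ιO := hloc
  let ιR : R →+* V := ιO.comp β.hom
  haveI : IsDiscreteValuationRing V := hV
  let κ := ResidueField V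
  let res : V →+* κ := residue V
  have hres : Function.Surjective res := residue_surjective
  have hRres : ∀ r : R, res (ιR r) = 0 ↔ r ∈ maximalIdeal R := fun r => by
    constructor
    · intro h
      by_contra hr
      exact ((IsLocalRing.notMem_maximalIdeal.1 hr).map (res.comp ιR)).ne_zero h
    · intro hr
      refine (residue_eq_zero_iff _).2 fun hu => ?_
      exact hβl r hr (hloc.map_nonunit _ hu)
  have hιR : ∀ r : R, (ιR r : K) = algebraMap R K r := fun r =>
    (IsScalarTower.algebraMap_apply R O K r).symm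
  let k : Subfield κ :=
    { (res.comp ιR).range with
      inv_mem' := by
        rintro _ ⟨r, rfl⟩
        by_cases hr : r ∈ maximalIdeal R
        · rw [RingHom.comp_apply, (hRres r).2 hr, inv_zero]
          exact ⟨0, map_zero _⟩
        · obtain ⟨r', hr'⟩ := (IsLocalRing.notMem_maximalIdeal.1 hr).exists_right_inv
          refine ⟨r', eq_inv_of_mul_eq_one_right ?_⟩
          rw [← map_mul, hr', map_one] }
  let T₀ : Subring V := ιR.range
  have hgood : Quad.Good res k T₀ := by
    refine ⟨?_, ⟨ιR x, ⟨x, rfl⟩, ιR y, ⟨y, rfl⟩, (hRres x).2 (hm ▸ Ideal.subset_span (by simp)),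
      (hRres y).2 (hm ▸ Ideal.subset_span (by simp)), ?_⟩, ?_, ?_⟩
    · rintro _ ⟨r, rfl⟩ b hb
      have hr : IsUnit r := by
        by_contra hr
        have := congrArg res hb
        rw [map_mul, (hRres r).2 hr, zero_mul, map_one] at this
        exact zero_ne_one this
      obtain ⟨r', hr'⟩ := hr.exists_right_inv
      refine ⟨r', ?_⟩
      calc ιR r' = ιR r' * (ιR r * b) := by rw [hb, mul_one]
        _ = ιR (r * r') * b := by rw [map_mul]; ring
        _ = b := by rw [hr', map_one, one_mul]
    · rintro _ ⟨r, rfl⟩ hr0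
      have := (hRres r).1 hr0
      rw [hm, Ideal.mem_span_pair] at this
      obtain ⟨c, d, rfl⟩ := this
      exact ⟨ιR c, ⟨c, rfl⟩, ιR d, ⟨d, rfl⟩, by simp only [map_add, map_mul]⟩
    · rintro _ ⟨r, rfl⟩
      exact ⟨ιR r, ⟨r, rfl⟩, rfl⟩
    · rintro _ ⟨r, rfl⟩
      exact isAlgebraic_algebraMap (⟨res (ιR r), r, rfl⟩ : k)
  have hfrac : ∀ w : V, ∃ g ∈ T₀, g ≠ 0 ∧ w * g ∈ T₀ := fun w => by
    obtain ⟨a, b, hb, hab⟩ := IsFractionRing.div_surjective R (w : K)
    refine ⟨ιR b, ⟨b, rfl⟩, fun h => ?_, a, Subtype.ext ?_⟩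
    · have := congrArg Subtype.val h
      rw [hιR] at this
      exact nonZeroDivisors.ne_zero hb (IsFractionRing.injective R K (this.trans (map_zero _).symm))
    · show (ιR a : K) = (w : K) * (ιR b : K)
      rw [hιR, hιR, ← hab, div_mul_cancel₀]
      exact fun h => nonZeroDivisors.ne_zero hb (IsFractionRing.injective R K (h.trans (map_zero _).symm))
  let γ : Spec (CommRingCat.of κ) ⟶ B :=
    Spec.map (CommRingCat.ofHom (res.comp ιO)) ≫ B.fromSpecStalk e
  have hγ : γ ≫ sB = Spec.map (CommRingCat.ofHom (res.comp ιR)) := by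
    rw [Category.assoc, ← hβ, ← Spec.map_comp]
    rfl
  have hγe : γ (closedPoint κ) = e := by
    rw [Scheme.Hom.comp_apply]
    have : Spec.map (CommRingCat.ofHom (res.comp ιO)) (closedPoint κ) = closedPoint O :=
      PrimeSpectrum.ext (by
        show (maximalIdeal κ).comap (res.comp ιO) = maximalIdeal O
        rw [IsLocalRing.maximalIdeal_eq_bot, ← RingHom.ker_eq_comap_bot]
        ext o
        rw [RingHom.mem_ker, RingHom.comp_apply, residue_eq_zero_iff, IsLocalRing.mem_maximalIdeal,
          IsLocalRing.mem_maximalIdeal, mem_nonunits_iff, mem_nonunits_iff, isUnit_map_iff])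
    rw [this, Scheme.fromSpecStalk_closedPoint]
  suffices H : ∃ (L : Type u) (_ : Field L) (f : R →+* L) (c : Spec (CommRingCat.of L) ⟶ B),
      f.IsIntegral ∧ c ≫ sB = Spec.map (CommRingCat.ofHom f) ∧ c (closedPoint L) = e by
    obtain ⟨L, _, f, c, hf, hc, hce⟩ := H
    haveI : IsIntegralHom (Spec.map (CommRingCat.ofHom f)) := IsIntegralHom.SpecMap_iff.mpr hf
    haveI : UniversallyClosed (c ≫ sB) := by rw [hc]; infer_instance
    haveI : UniversallyClosed c := UniversallyClosed.of_comp_of_isSeparated c sB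
    have := c.isClosedMap Set.univ isClosed_univ
    rwa [Set.image_univ, show Set.range c = {e} from
      Set.ext fun z => ⟨fun ⟨q, hq⟩ => by rw [← hq, ← hce, Subsingleton.elim q (closedPoint L)]; rfl,
        fun h => ⟨closedPoint L, hce.trans h.symm⟩⟩] at this
  have hint : ∀ (L : Type u) [Field L] (g : k →+* L), (∀ l : L, ∃ p : Polynomial k, p.Monic ∧ p.eval₂ g l = 0) →
      (g.comp ((res.comp ιR).codRestrict k.toSubring fun r => ⟨r, rfl⟩)).IsIntegral := by
    intro L _ g hg l
    obtain ⟨p, hp, hpl⟩ := hg l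
    have hs : Function.Surjective ((res.comp ιR).codRestrict k.toSubring fun r => ⟨r, rfl⟩) := by
      rintro ⟨_, r, rfl⟩
      exact ⟨r, rfl⟩
    obtain ⟨q, hq, -, hqm⟩ := Polynomial.lifts_and_natDegree_eq_and_monic
      (f := (res.comp ιR).codRestrict k.toSubring fun r => ⟨r, rfl⟩) (p := p)
      ((Polynomial.lifts_iff_coeff_lifts _).2 fun n => hs _) hp
    refine ⟨q, hqm, ?_⟩
    rw [← hq, Polynomial.eval₂_map] at hpl
    exact hpl
  rcases Quad.rational_or_algebraic hres T₀ hgood hfrac with halg | ⟨L, τ, hLalg, htr, hgen⟩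
  · refine ⟨κ, inferInstance, _, γ, hint κ k.subtype (fun l => (halg l).isIntegral), ?_, hγe⟩
    rw [hγ]
    rfl
  · let inc : L →+* κ := algebraMap L κ
    letI : Algebra L[X] κ := (aeval τ).toRingHom.toAlgebra
    haveI : IsScalarTower L L[X] κ := IsScalarTower.of_algebraMap_eq fun l => (aeval_C τ l).symm
    haveI : IsFractionRing L[X] κ := by
      haveI : FaithfulSMul L[X] κ := (faithfulSMul_iff_algebraMap_injective _ _).2
        (transcendental_iff_injective.1 htr)
      refine IsFractionRing.of_field L[X] κ fun z => ?_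
      obtain ⟨r, s, -, hz⟩ := hgen z
      exact ⟨r, s, hz⟩
    let f : R →+* L := (algebraMap k L).comp ((res.comp ιR).codRestrict k.toSubring fun r => ⟨r, rfl⟩)
    have hf : (algebraMap L κ).comp f = res.comp ιR := rfl
    obtain ⟨a, ha⟩ := exists_const A L (Spec.map (CommRingCat.ofHom f) ≫ t) κ (γ ≫ pullback.fst A.hom t) (by
      rw [Category.assoc, pullback.condition, ← Category.assoc, hγ, ← hf, CommRingCat.ofHom_comp,
        Spec.map_comp, Category.assoc])
    haveI : Surjective (Spec.map (CommRingCat.ofHom (algebraMap L κ))) :=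
      ⟨Function.surjective_to_subsingleton (α := Spec (CommRingCat.of κ)) (β := Spec (CommRingCat.of L)) _⟩
    haveI : QuasiCompact (Spec.map (CommRingCat.ofHom (algebraMap L κ))) := inferInstance
    haveI : Flat (Spec.map (CommRingCat.ofHom (algebraMap L κ))) :=
      Flat.SpecMap_iff.2 (RingHom.flat_algebraMap_iff.2 inferInstance)
    have hat : a ≫ A.hom = Spec.map (CommRingCat.ofHom f) ≫ t := by
      rw [← cancel_epi (Spec.map (CommRingCat.ofHom (algebraMap L κ))), ← Category.assoc, ← ha,
        Category.assoc, pullback.condition, ← Category.assoc, hγ, ← hf, CommRingCat.ofHom_comp,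
        Spec.map_comp, Category.assoc]
    refine ⟨L, inferInstance, f, pullback.lift a _ hat,
      hint L (algebraMap k L) (fun l => (Algebra.IsAlgebraic.isAlgebraic (R := k) l).isIntegral),
      pullback.lift_snd _ _ _, ?_⟩
    have : γ = Spec.map (CommRingCat.ofHom (algebraMap L κ)) ≫ pullback.lift a _ hat := by
      refine pullback.hom_ext ?_ ?_
      · refine ha.trans ?_
        exact (congrArg _ (pullback.lift_fst _ _ _).symm).trans (Category.assoc _ _ _).symm
      · refine hγ.trans ?_
        refine Eq.trans ?_ ((congrArg _ (pullback.lift_snd _ _ _).symm).trans (Category.assoc _ _ _).symm)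
        rw [← Spec.map_comp, ← hf]
        rfl
    rw [← hγe, this, Scheme.Hom.comp_apply]
    exact congrArg _ (Subsingleton.elim _ _)

end Groth.Agent.H26.AbExt
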