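import Groth.Agent.H26.AbExt.Regular
import Groth.Agent.H26.DescentExt
import Groth.Agent.WeilExt.Extend

/-!
# Rational maps from regular schemes to abelian schemes are defined everywhere
-/

set_option autoImplicit false
set_option linter.style.haveILetI false

universe u

open CategoryTheory CategoryTheory.Limits AlgebraicGeometry IsLocalRing TopologicalSpace

namespace Groth.Agent.H26.AbExt

variable {S : Scheme.{u}} (A : Over S) [GrpObj A] [IsProper A.hom] [Smooth A.hom]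
  [GeometricallyConnected A.hom]

/-- A map from a dense open of a regular scheme to an abelian scheme extends uniquely. -/
theorem existsUnique_ext {Y : Scheme.{u}} [IsLocallyNoetherian Y]
    (hY : ∀ y : Y, IsRegularLocalRing (Y.presheaf.stalk y)) (pY : Y ⟶ S) (W : Y.Opens)
    (hW : Dense (W : Set Y)) (h : W.toScheme ⟶ A.left) (hh : h ≫ A.hom = W.ι ≫ pY) :
    ∃! g : Y ⟶ A.left, g ≫ A.hom = pY ∧ W.ι ≫ g = h := by
  haveI : ∀ y : Y, IsDomain (Y.presheaf.stalk y) := fun y => by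
    haveI := hY y
    exact (Groth.Agent.S2821.result _).1
  haveI : ∀ y : Y, _root_.IsReduced (Y.presheaf.stalk y) := fun y => inferInstance
  haveI : IsReduced Y := isReduced_of_isReduced_stalk Y
  have huniq : ∀ (P : Scheme.{u}) (p : P ⟶ Y) [IsOpenImmersion p] (a b : P ⟶ A.left),
      a ≫ A.hom = p ≫ pY → b ≫ A.hom = p ≫ pY →
      (p ⁻¹ᵁ W).ι ≫ a = (p ⁻¹ᵁ W).ι ≫ b → a = b := by
    intro P p _ a b ha hb hab
    haveI : IsReduced P := isReduced_of_isOpenImmersion p
    haveI : IsDominant (p ⁻¹ᵁ W).ι := ⟨by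
      rw [DenseRange, Scheme.Opens.range_ι]
      exact hW.preimage p.isOpenEmbedding.isOpenMap⟩
    exact ext_of_isDominant_of_isSeparated A.hom (ha.trans hb.symm) (p ⁻¹ᵁ W).ι hab
  have hex : ∀ y : Y, ∃ gy : Spec (Y.presheaf.stalk y) ⟶ A.left,
      (Y.fromSpecStalk y ⁻¹ᵁ W).ι ≫ gy = (Y.fromSpecStalk y ∣_ W) ≫ h ∧
      gy ≫ A.hom = Y.fromSpecStalk y ≫ pY := by
    intro y
    let O := Y.presheaf.stalk y
    haveI hO : IsRegularLocalRing O := hY y
    let e : Spec O ⟶ Y := Y.fromSpecStalk y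
    let K := FractionRing O
    let j : Spec (CommRingCat.of K) ⟶ Spec O := Spec.map (CommRingCat.ofHom (algebraMap O K))
    haveI : IsDominant j := ⟨by
      show DenseRange (PrimeSpectrum.comap (algebraMap O K))
      rw [PrimeSpectrum.denseRange_comap_iff_ker_le_nilRadical]
      rw [(RingHom.injective_iff_ker_eq_bot _).1 (IsFractionRing.injective O K)]
      exact bot_le⟩
    obtain ⟨z, hz, hzW⟩ := WeilExt.exists_generization_mem W hW y
    obtain ⟨z', rfl⟩ : z ∈ Set.range e := by rw [Scheme.range_fromSpecStalk]; exact hz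
    have hj : Set.range j ⊆ Set.range (e ⁻¹ᵁ W).ι := by
      rw [Scheme.Opens.range_ι]
      rintro _ ⟨q, rfl⟩
      obtain ⟨q', hwW⟩ := j.denseRange.exists_mem_open (e ⁻¹ᵁ W).2 ⟨z', hzW⟩
      rwa [Subsingleton.elim q q']
    let l := IsOpenImmersion.lift (e ⁻¹ᵁ W).ι j hj
    have hl : l ≫ (e ⁻¹ᵁ W).ι = j := IsOpenImmersion.lift_fac _ _ _
    let φ : Spec (CommRingCat.of K) ⟶ A.left := l ≫ (e ∣_ W) ≫ h
    have hφ : φ ≫ A.hom = j ≫ e ≫ pY := by
      simp only [φ, Category.assoc, hh, morphismRestrict_ι_assoc, reassoc_of% hl]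
    obtain ⟨gy, hgy, hgyφ⟩ := @extends_regular S A _ _ _ _ _ O _ hO le_rfl _ K _ _ _ (e ≫ pY) φ hφ
    refine ⟨gy, ?_, hgy⟩
    haveI : IsReduced (e ⁻¹ᵁ W).toScheme := isReduced_of_isOpenImmersion (e ⁻¹ᵁ W).ι
    haveI : IsDominant l := by
      have : IsDominant (l ≫ (e ⁻¹ᵁ W).ι) := by rw [hl]; infer_instance
      refine ⟨?_⟩
      intro q
      have hq := this.denseRange ((e ⁻¹ᵁ W).ι q)
      rw [Scheme.Hom.comp_base, TopCat.coe_comp, Set.range_comp] at hq
      rw [(e ⁻¹ᵁ W).ι.isEmbedding.closure_eq_preimage_closure_image]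
      exact hq
    refine ext_of_isDominant_of_isSeparated A.hom ?_ l ?_
    · simp only [Category.assoc, hgy, hh, morphismRestrict_ι_assoc]
      rfl
    · rw [reassoc_of% hl]
      exact hgyφ
  choose gy hgyW hgyS using hex
  obtain ⟨g, hg, hgW⟩ := DescentExt.exists_ext_of_stalks pY A.hom W h huniq gy hgyW hgyS
  refine ⟨g, ⟨hg, hgW⟩, fun g' hg' => ?_⟩
  haveI : IsDominant W.ι := ⟨by rw [DenseRange, Scheme.Opens.range_ι]; exact hW⟩
  exact ext_of_isDominant_of_isSeparated A.hom (hg'.1.trans hg.symm) W.ι (hg'.2.trans hgW.symm)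

end Groth.Agent.H26.AbExt
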