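import Groth.Agent.H26.AbExt.Closed
import Groth.Agent.H26.AbExt.Base
import Groth.Agent.S2266
import Groth.Agent.S2821
import Groth.Agent.RegLoc6.Normal

/-!
# Sections of abelian schemes over the generic point of a regular local ring extend
-/

set_option autoImplicit false
set_option linter.style.haveILetI false

universe u

open CategoryTheory CategoryTheory.Limits AlgebraicGeometry IsLocalRing TopologicalSpace

namespace Groth.Agent.H26.AbExt

variable {S : Scheme.{u}} (A : Over S)

/-- `φ` extends over the spectrum of `R`. -/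
def Extends (R : Type u) [CommRing R] {K : Type u} [CommRing K] (ι : R →+* K)
    (t : Spec (CommRingCat.of R) ⟶ S) (φ : Spec (CommRingCat.of K) ⟶ A.left) : Prop :=
  ∃ ψ : Spec (CommRingCat.of R) ⟶ A.left,
    ψ ≫ A.hom = t ∧ Spec.map (CommRingCat.ofHom ι) ≫ ψ = φ

/-- The localization of a domain at a prime, inside the fraction field. -/
noncomputable abbrev jLoc {R : Type u} [CommRing R] [IsDomain R] (K : Type u) [Field K] [Algebra R K]
    [IsFractionRing R K] (p : Ideal R) [p.IsPrime] : Localization.AtPrime p →+* K :=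
  IsLocalization.lift (M := p.primeCompl) (g := algebraMap R K) fun y =>
    IsUnit.mk0 _ fun h => y.2 (by
      rw [IsFractionRing.injective R K (h.trans (map_zero _).symm)]; exact p.zero_mem)

theorem jLoc_injective {R : Type u} [CommRing R] [IsDomain R] (K : Type u) [Field K] [Algebra R K]
    [IsFractionRing R K] (p : Ideal R) [p.IsPrime] : Function.Injective (jLoc K p) := by
  rw [IsLocalization.lift_injective_iff]
  intro a b
  rw [(IsFractionRing.injective R K).eq_iff]
  exact ⟨fun h => (IsLocalization.injective (Localization.AtPrime p) p.primeCompl_le_nonZeroDivisors h),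
    fun h => h ▸ rfl⟩

/-- The map between localizations of a domain at nested primes. -/
noncomputable abbrev vLoc {R : Type u} [CommRing R] {I p : Ideal R} [I.IsPrime] [p.IsPrime] (h : I ≤ p) :
    Localization.AtPrime p →+* Localization.AtPrime I :=
  IsLocalization.map (M := p.primeCompl) (T := I.primeCompl) (Localization.AtPrime I) (RingHom.id R)
    (fun _ hr hI => hr (h hI))

theorem vLoc_algebraMap {R : Type u} [CommRing R] {I p : Ideal R} [I.IsPrime] [p.IsPrime] (h : I ≤ p)
    (r : R) : vLoc h (algebraMap R _ r) = algebraMap R _ r :=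
  IsLocalization.map_eq _ r

theorem vLoc_comp {R : Type u} [CommRing R] {I p : Ideal R} [I.IsPrime] [p.IsPrime] (h : I ≤ p) :
    CommRingCat.ofHom (algebraMap R (Localization.AtPrime p)) ≫ CommRingCat.ofHom (vLoc h) =
      CommRingCat.ofHom (algebraMap R (Localization.AtPrime I)) :=
  CommRingCat.hom_ext (RingHom.ext (vLoc_algebraMap h))

variable [GrpObj A] [IsProper A.hom] [Smooth A.hom] [GeometricallyConnected A.hom]

omit [GrpObj A] [Smooth A.hom] [GeometricallyConnected A.hom] in
theorem extends_of_valuationRing {R : Type u} [CommRing R] [IsDomain R] [ValuationRing R]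
    {K : Type u} [Field K] [Algebra R K] [IsFractionRing R K] (t : Spec (CommRingCat.of R) ⟶ S)
    (φ : Spec (CommRingCat.of K) ⟶ A.left)
    (hφ : φ ≫ A.hom = Spec.map (CommRingCat.ofHom (algebraMap R K)) ≫ t) :
    Extends A R (algebraMap R K) t φ := by
  have hE : ValuativeCriterion.Existence A.hom := by
    have h := ‹IsProper A.hom›
    rw [IsProper.eq_valuativeCriterion] at h
    exact h.1.1.1.existence
  let sq : ValuativeCommSq A.hom :=
    { R := R, domain := inferInstance, valuationRing := inferInstance, K := K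
      i₁ := φ, i₂ := t, commSq := ⟨hφ⟩ }
  obtain ⟨l, hl₁, hl₂⟩ := (hE sq).exists_lift
  exact ⟨l, hl₂, hl₁⟩

theorem finite_of_closed_points {α : Type u} [TopologicalSpace α] [NoetherianSpace α] [QuasiSober α]
    (h : ∀ a : α, IsClosed ({a} : Set α)) : Finite α := by
  have hsub : ∀ C ∈ irreducibleComponents α, C.Subsingleton := by
    intro C hC
    obtain ⟨g, hg⟩ := QuasiSober.sober hC.1 (isClosed_of_mem_irreducibleComponents C hC)
    rw [← hg.def, (h g).closure_eq]
    exact Set.subsingleton_singleton
  refine Set.finite_univ_iff.1 ?_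
  rw [← sUnion_irreducibleComponents]
  exact NoetherianSpace.finite_irreducibleComponents.sUnion fun C hC => (hsub C hC).finite

/-- Two-generated maximal ideal: the closure of the graph is finite, hence trivial. -/
theorem extends_of_two_generators {R : Type u} [CommRing R] [IsDomain R] [IsLocalRing R]
    [IsNoetherianRing R] [IsIntegrallyClosed R]
    {K : Type u} [Field K] [Algebra R K] [IsFractionRing R K]
    (x y : R) (hm : maximalIdeal R = Ideal.span {x, y}) (hR : maximalIdeal R ≠ ⊥)
    (t : Spec (CommRingCat.of R) ⟶ S) (φ₀ : Spec (CommRingCat.of K) ⟶ A.left)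
    (hφ₀ : φ₀ ≫ A.hom = Spec.map (CommRingCat.ofHom (algebraMap R K)) ≫ t)
    (hloc : ∀ (p : Ideal R) [p.IsPrime], p ≠ maximalIdeal R →
      Extends A (Localization.AtPrime p) (jLoc K p)
        (Spec.map (CommRingCat.ofHom (algebraMap R (Localization.AtPrime p))) ≫ t) φ₀) :
    Extends A R (algebraMap R K) t φ₀ := by
  let B := pullback A.hom t
  let sB : B ⟶ Spec (CommRingCat.of R) := pullback.snd A.hom t
  let φ : Spec (CommRingCat.of K) ⟶ B :=
    pullback.lift φ₀ (Spec.map (CommRingCat.ofHom (algebraMap R K))) hφ₀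
  have hφ : φ ≫ sB = Spec.map (CommRingCat.ofHom (algebraMap R K)) := pullback.lift_snd _ _ _
  haveI : QuasiSeparated sB := inferInstance
  haveI : QuasiCompact (φ ≫ sB) := by rw [hφ]; infer_instance
  haveI : QuasiCompact φ := QuasiCompact.of_comp φ sB
  let η := φ (closedPoint K)
  let Γsch := φ.image
  let sΓ : Γsch ⟶ Spec (CommRingCat.of R) := φ.imageι ≫ sB
  haveI : IsProper sΓ := inferInstance
  haveI : IsReduced Γsch := (Groth.Agent.S2266.result φ).1
  haveI : IrreducibleSpace Γsch := (Groth.Agent.S2266.result φ).2 inferInstance inferInstance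
  haveI : IsIntegral Γsch := isIntegral_of_irreducibleSpace_of_isReduced _
  have hrange : Set.range φ.imageι = closure {η} := by
    have h1 : Set.range φ = {η} := Set.ext fun z =>
      ⟨fun ⟨q, hq⟩ => by rw [← hq, Subsingleton.elim q (closedPoint K)]; rfl,
        fun h => ⟨closedPoint K, h.symm⟩⟩
    rw [← h1]
    refine Set.Subset.antisymm ?_ ?_
    · rw [Scheme.IdealSheafData.range_subschemeι, Scheme.Hom.support_ker]
    · refine closure_minimal ?_ φ.imageι.isClosedEmbedding.isClosed_range
      rintro _ ⟨q, rfl⟩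
      exact ⟨φ.toImage q, by rw [← Scheme.Hom.comp_apply, φ.toImage_imageι]⟩
  haveI : IsLocallyNoetherian B := LocallyOfFiniteType.isLocallyNoetherian sB
  have hfib : ∀ P : Spec (CommRingCat.of R), Set.Finite (closure {η} ∩ sB ⁻¹' {P}) := by
    intro P
    by_cases hP : P = closedPoint R
    · subst hP
      haveI : CompactSpace B := QuasiCompact.compactSpace_of_compactSpace sB
      haveI : IsNoetherian B := { }
      let Z := closure ({η} : Set B) ∩ sB ⁻¹' {closedPoint R}
      have hZ : IsClosed Z := isClosed_closure.inter ((isClosed_singleton_closedPoint R).preimage sB.continuous)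
      haveI : QuasiSober Z := hZ.isClosedEmbedding_subtypeVal.quasiSober
      haveI : NoetherianSpace Z := Topology.IsInducing.noetherianSpace Topology.IsEmbedding.subtypeVal.isInducing
      have : Finite Z := finite_of_closed_points fun a => by
        have := (isClosed_of_two_generators A x y hm hR t φ hφ a.1
          (specializes_iff_mem_closure.2 a.2.1) a.2.2).preimage (continuous_subtype_val (p := (· ∈ Z)))
        convert this
        ext b
        simp [Subtype.ext_iff]
      exact Set.toFinite _
    · let p := P.asIdeal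
      haveI : p.IsPrime := P.isPrime
      have hp : p ≠ maximalIdeal R := fun h => hP (PrimeSpectrum.ext h)
      obtain ⟨ψ, hψ, hψφ⟩ := hloc p hp
      let j := Spec.map (CommRingCat.ofHom (algebraMap R (Localization.AtPrime p)))
      haveI : IsPreimmersion j := IsPreimmersion.of_isLocalization p.primeCompl
      let s : Spec (CommRingCat.of (Localization.AtPrime p)) ⟶ pullback sB j :=
        pullback.lift (pullback.lift ψ j hψ) (𝟙 _) (by rw [pullback.lift_snd, Category.id_comp])
      haveI : IsClosedImmersion (s ≫ pullback.snd sB j) := by rw [pullback.lift_snd]; infer_instance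
      haveI : IsClosedImmersion s := IsClosedImmersion.of_comp s (pullback.snd sB j)
      let η' : ↥(pullback sB j) := s (Spec.map (CommRingCat.ofHom (jLoc K p)) (closedPoint K))
      have hη' : pullback.fst sB j η' = η := by
        simp only [η', η, ← Scheme.Hom.comp_apply]
        have : Spec.map (CommRingCat.ofHom (jLoc K p)) ≫ s ≫ pullback.fst sB j = φ := by
          rw [pullback.lift_fst]
          refine pullback.hom_ext ?_ ?_
          · rw [Category.assoc, pullback.lift_fst, hψφ, pullback.lift_fst]
          · rw [Category.assoc, pullback.lift_snd, pullback.lift_snd, ← Spec.map_comp]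
            congr 1
            ext r
            exact IsLocalization.lift_eq _ r
        rw [Category.assoc, this]
      refine Set.Subsingleton.finite (Set.subsingleton_of_subset_singleton
        (a := pullback.fst sB j (s (closedPoint (Localization.AtPrime p)))) ?_)
      rintro c ⟨hc, hcP⟩
      have hPj : j (closedPoint (Localization.AtPrime p)) = P :=
        PrimeSpectrum.ext (IsLocalization.AtPrime.comap_maximalIdeal (Localization.AtPrime p) p)
      obtain ⟨c', rfl⟩ : c ∈ Set.range (pullback.fst sB j) := by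
        rw [Scheme.Pullback.range_fst]
        show sB c ∈ Set.range j
        exact ⟨closedPoint (Localization.AtPrime p), hPj.trans hcP.symm⟩
      have hc' : c' ∈ closure ({η'} : Set ↥(pullback sB j)) := by
        rw [(pullback.fst sB j).isEmbedding.closure_eq_preimage_closure_image, Set.image_singleton, hη']
        exact hc
      obtain ⟨q, rfl⟩ : c' ∈ Set.range s :=
        closure_minimal (s := ({η'} : Set ↥(pullback sB j))) (t := Set.range s)
          (Set.singleton_subset_iff.2 ⟨_, rfl⟩) s.isClosedEmbedding.isClosed_range hc'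
      have hq : j q = P := by
        refine Eq.trans ?_ hcP
        show j q = sB (pullback.fst sB j (s q))
        rw [← Scheme.Hom.comp_apply, ← Scheme.Hom.comp_apply, pullback.lift_fst_assoc,
          pullback.lift_snd]
      rw [j.isEmbedding.injective (hq.trans hPj.symm)]
      rfl
  haveI : LocallyQuasiFinite sΓ := LocallyQuasiFinite.of_finite_preimage_singleton sΓ fun P => by
    refine Set.Finite.of_finite_image ((hfib P).subset ?_) φ.imageι.isEmbedding.injective.injOn
    rintro _ ⟨q, hq, rfl⟩
    exact ⟨hrange ▸ ⟨q, rfl⟩, hq⟩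
  haveI : IsFinite sΓ := IsFinite.of_isProper_of_locallyQuasiFinite sΓ
  haveI : IsAffine Γsch := isAffine_of_isAffineHom sΓ
  let Br := Γ(Γsch, ⊤)
  let e := Γsch.isoSpec
  let f : CommRingCat.of R ⟶ Br := Spec.preimage (e.inv ≫ sΓ)
  let χ : Br ⟶ CommRingCat.of K := Spec.preimage (φ.toImage ≫ e.hom)
  have hfχ : f ≫ χ = CommRingCat.ofHom (algebraMap R K) := Spec.map_injective (by
    rw [Spec.map_comp, Spec.map_preimage, Spec.map_preimage, Category.assoc, e.hom_inv_id_assoc,
      φ.toImage_imageι_assoc, hφ])
  haveI : IsIntegralHom (Spec.map f) := by rw [Spec.map_preimage]; infer_instance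
  have hfint : f.hom.IsIntegral := IsIntegralHom.SpecMap_iff.1 inferInstance
  have hmem : ∀ b : Br, ∃ r : R, algebraMap R K r = χ.hom b := fun b => by
    obtain ⟨q, hqm, hq⟩ := hfint b
    refine IsIntegrallyClosed.isIntegral_iff.1 ⟨q, hqm, ?_⟩
    have := congrArg χ.hom hq
    rw [map_zero, Polynomial.hom_eval₂, ← CommRingCat.hom_comp, hfχ] at this
    exact this
  choose g hg using hmem
  have hinj := IsFractionRing.injective R K
  let gh : Br →+* R :=
    { toFun := g
      map_one' := hinj (by rw [hg, map_one, map_one])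
      map_mul' := fun a b => hinj (by rw [hg, map_mul, map_mul, hg, hg])
      map_zero' := hinj (by rw [hg, map_zero, map_zero])
      map_add' := fun a b => hinj (by rw [hg, map_add, map_add, hg, hg]) }
  let ψ : Spec (CommRingCat.of R) ⟶ B := Spec.map (CommRingCat.ofHom gh) ≫ e.inv ≫ φ.imageι
  have hψφ : Spec.map (CommRingCat.ofHom (algebraMap R K)) ≫ ψ = φ := by
    have : CommRingCat.ofHom gh ≫ CommRingCat.ofHom (algebraMap R K) = χ := by
      ext b; exact hg b
    rw [← Category.assoc, ← Spec.map_comp, this, Spec.map_preimage, Category.assoc,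
      e.hom_inv_id_assoc, φ.toImage_imageι]
  have hψs : ψ ≫ sB = 𝟙 _ := by
    simp only [ψ, Category.assoc]
    rw [show e.inv ≫ φ.imageι ≫ sB = Spec.map f from (Spec.map_preimage _).symm, ← Spec.map_comp,
      ← Spec.map_id]
    congr 1
    ext r
    refine hinj ?_
    show algebraMap R K (gh (f.hom r)) = algebraMap R K r
    refine (hg _).trans ?_
    exact congrArg (fun k : CommRingCat.of R ⟶ CommRingCat.of K => k.hom r) hfχ
  refine ⟨ψ ≫ pullback.fst A.hom t, ?_, ?_⟩
  · rw [Category.assoc, pullback.condition, ← Category.assoc, hψs, Category.id_comp]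
  · rw [← Category.assoc, hψφ, pullback.lift_fst]

omit [GrpObj A] [Smooth A.hom] [GeometricallyConnected A.hom] in
/-- In dimension at least three, extend from a regular hyperplane. -/
theorem extends_of_hyperplane {R : Type u} [CommRing R] [IsDomain R] [IsLocalRing R]
    [IsNoetherianRing R] [UniqueFactorizationMonoid R]
    {K : Type u} [Field K] [Algebra R K] [IsFractionRing R K]
    (hdim : ¬ (maximalIdeal R).height ≤ 2)
    (x : R) (hx : x ∈ maximalIdeal R) [IsDomain (R ⧸ Ideal.span {x})] [IsLocalRing (R ⧸ Ideal.span {x})]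
    (hxm : Ideal.span {x} ≠ maximalIdeal R)
    (t : Spec (CommRingCat.of R) ⟶ S) (φ : Spec (CommRingCat.of K) ⟶ A.left)
    (hφ : φ ≫ A.hom = Spec.map (CommRingCat.ofHom (algebraMap R K)) ≫ t)
    (hloc : ∀ (p : Ideal R) [p.IsPrime], p ≠ maximalIdeal R →
      Extends A (Localization.AtPrime p) (jLoc K p)
        (Spec.map (CommRingCat.ofHom (algebraMap R (Localization.AtPrime p))) ≫ t) φ)
    (hhyp : ∀ φ' : Spec (CommRingCat.of (FractionRing (R ⧸ Ideal.span {x}))) ⟶ A.left,
      φ' ≫ A.hom = Spec.map (CommRingCat.ofHom (algebraMap (R ⧸ Ideal.span {x}) _)) ≫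
        Spec.map (CommRingCat.ofHom (Ideal.Quotient.mk (Ideal.span {x}))) ≫ t →
      Extends A (R ⧸ Ideal.span {x}) (algebraMap (R ⧸ Ideal.span {x}) (FractionRing (R ⧸ Ideal.span {x})))
        (Spec.map (CommRingCat.ofHom (Ideal.Quotient.mk (Ideal.span {x}))) ≫ t) φ') :
    Extends A R (algebraMap R K) t φ := by
  let I := Ideal.span ({x} : Set R)
  let π := Ideal.Quotient.mk I
  let K' := FractionRing (R ⧸ I)
  haveI hI : I.IsPrime := (Ideal.Quotient.isDomain_iff_prime _).mp inferInstance
  obtain ⟨ψ₀, hψ₀, hψ₀φ⟩ := hloc I hxm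
  let c : R →+* K' := (algebraMap (R ⧸ I) K').comp π
  have hc : ∀ r ∉ I, IsUnit (c r) := fun r hr => IsUnit.mk0 _ fun h =>
    hr (Ideal.Quotient.eq_zero_iff_mem.1 (IsFractionRing.injective (R ⧸ I) K' (h.trans (map_zero _).symm)))
  let q₀ : Localization.AtPrime I →+* K' := IsLocalization.lift (M := I.primeCompl) (g := c) fun r => hc r.1 r.2
  have hq₀ : CommRingCat.ofHom (algebraMap R (Localization.AtPrime I)) ≫ CommRingCat.ofHom q₀ =
      CommRingCat.ofHom π ≫ CommRingCat.ofHom (algebraMap (R ⧸ I) K') := by
    ext r; exact IsLocalization.lift_eq _ r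
  let φ' : Spec (CommRingCat.of K') ⟶ A.left := Spec.map (CommRingCat.ofHom q₀) ≫ ψ₀
  have hφ' : φ' ≫ A.hom = Spec.map (CommRingCat.ofHom (algebraMap (R ⧸ I) K')) ≫
      Spec.map (CommRingCat.ofHom π) ≫ t := by
    rw [Category.assoc, hψ₀, ← Category.assoc, ← Spec.map_comp, hq₀, Spec.map_comp, Category.assoc]
  obtain ⟨ψ', hψ', hψ'φ⟩ := hhyp φ' hφ'
  -- affine neighbourhoods
  obtain ⟨_, ⟨S₀, hS₀, rfl⟩, hS₀m, -⟩ :=
    S.isBasis_affineOpens.exists_subset_of_mem_open (Set.mem_univ (t (closedPoint R))) isOpen_univ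
  have haS₀ : ψ' (closedPoint (R ⧸ I)) ∈ A.hom ⁻¹ᵁ S₀ := by
    show A.hom (ψ' (closedPoint (R ⧸ I))) ∈ S₀
    rw [← Scheme.Hom.comp_apply, hψ', Scheme.Hom.comp_apply]
    haveI : IsLocalHom π := IsLocalHom.of_surjective _ Ideal.Quotient.mk_surjective
    rwa [show Spec.map (CommRingCat.ofHom π) (closedPoint (R ⧸ I)) = closedPoint R from
      IsLocalRing.comap_closedPoint π]
  obtain ⟨_, ⟨W, hW, rfl⟩, haW, hWS₀⟩ :=
    A.left.isBasis_affineOpens.exists_subset_of_mem_open haS₀ (A.hom ⁻¹ᵁ S₀).2
  -- the extension at primes containing `x` lands in `W`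
  have hmemW : ∀ (p : Ideal R) [p.IsPrime], x ∈ p → ∀ ψ : Spec (CommRingCat.of (Localization.AtPrime p)) ⟶ A.left,
      ψ ≫ A.hom = Spec.map (CommRingCat.ofHom (algebraMap R (Localization.AtPrime p))) ≫ t →
      Spec.map (CommRingCat.ofHom (jLoc K p)) ≫ ψ = φ → ψ (closedPoint (Localization.AtPrime p)) ∈ W := by
    intro p _ hxp ψ hψ hψφ
    have hIp : I ≤ p := (Ideal.span_singleton_le_iff_mem _).2 hxp
    let pb : Ideal (R ⧸ I) := p.map π
    haveI : pb.IsPrime := Ideal.map_isPrime_of_surjective Ideal.Quotient.mk_surjective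
      (by rw [Ideal.mk_ker]; exact hIp)
    have hcomap : pb.comap π = p := by
      rw [Ideal.comap_map_of_surjective _ Ideal.Quotient.mk_surjective, ← RingHom.ker_eq_comap_bot,
        Ideal.mk_ker, sup_eq_left.2 hIp]
    let T' := Localization.AtPrime pb
    let u : Localization.AtPrime p →+* T' := Localization.localRingHom p pb π hcomap.symm
    let v : Localization.AtPrime p →+* Localization.AtPrime I := vLoc hIp
    have hψψ₀ : Spec.map (CommRingCat.ofHom v) ≫ ψ = ψ₀ := by
      refine ext_generic A.hom (jLoc K I) (jLoc_injective K I) _ _ ?_ ?_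
      · rw [Category.assoc, hψ, hψ₀, ← Category.assoc, ← Spec.map_comp]
        rw [vLoc_comp hIp]
      · rw [hψ₀φ, ← Category.assoc, ← Spec.map_comp]
        refine Eq.trans ?_ hψφ
        congr 2
        apply CommRingCat.hom_ext
        refine IsLocalization.ringHom_ext p.primeCompl (RingHom.ext fun r => ?_)
        show jLoc K I (v (algebraMap R _ r)) = jLoc K p (algebraMap R _ r)
        rw [show v (algebraMap R _ r) = algebraMap R _ r from vLoc_algebraMap hIp r,
          IsLocalization.lift_eq, IsLocalization.lift_eq]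
    have key : Spec.map (CommRingCat.ofHom u) ≫ ψ =
        Spec.map (CommRingCat.ofHom (algebraMap (R ⧸ I) T')) ≫ ψ' := by
      refine ext_generic A.hom (jLoc K' pb) (jLoc_injective K' pb) _ _ ?_ ?_
      · rw [Category.assoc, hψ, Category.assoc, hψ', ← Category.assoc, ← Category.assoc,
          ← Spec.map_comp, ← Spec.map_comp]
        congr 2
        ext r
        exact Localization.localRingHom_to_map p pb π hcomap.symm r
      · have e1 : CommRingCat.ofHom (algebraMap (R ⧸ I) T') ≫ CommRingCat.ofHom (jLoc K' pb) =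
            CommRingCat.ofHom (algebraMap (R ⧸ I) K') := by
          exact CommRingCat.hom_ext (RingHom.ext fun z => IsLocalization.lift_eq _ z)
        have e2 : CommRingCat.ofHom u ≫ CommRingCat.ofHom (jLoc K' pb) =
            CommRingCat.ofHom v ≫ CommRingCat.ofHom q₀ := by
          apply CommRingCat.hom_ext
          refine IsLocalization.ringHom_ext p.primeCompl (RingHom.ext fun r => ?_)
          show jLoc K' pb (u (algebraMap R _ r)) = q₀ (v (algebraMap R _ r))
          rw [Localization.localRingHom_to_map,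
            show v (algebraMap R _ r) = algebraMap R _ r from vLoc_algebraMap hIp r,
            IsLocalization.lift_eq, IsLocalization.lift_eq]
          rfl
        rw [← Category.assoc, ← Spec.map_comp, ← Category.assoc, ← Spec.map_comp, e1, hψ'φ, e2,
          Spec.map_comp, Category.assoc, hψψ₀]
    have h1 : Spec.map (CommRingCat.ofHom u) (closedPoint T') = closedPoint (Localization.AtPrime p) :=
      IsLocalRing.comap_closedPoint u
    rw [← h1, ← Scheme.Hom.comp_apply, key, Scheme.Hom.comp_apply]
    exact ((IsLocalRing.specializes_closedPoint _).map ψ'.continuous).mem_open W.2 haW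
  obtain ⟨χ₀, hχ₀⟩ := exists_ringHom hW ψ₀ (hmemW I (Ideal.mem_span_singleton_self x) ψ₀ hψ₀ hψ₀φ)
  let χ : Γ(A.left, W) ⟶ CommRingCat.of K := χ₀ ≫ CommRingCat.ofHom (jLoc K I)
  have hχ : Spec.map χ ≫ hW.fromSpec = φ := by rw [Spec.map_comp, Category.assoc, hχ₀, hψ₀φ]
  have hmem : ∀ w, ∃ r : R, algebraMap R K r = χ.hom w := by
    intro w
    obtain ⟨a, b, hab, hmk⟩ := IsFractionRing.exists_reduced_fraction R (χ.hom w)
    have hω : χ.hom w * algebraMap R K (b : R) = algebraMap R K a := by
      rw [← hmk, IsLocalization.mk'_spec]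
    by_cases hb : IsUnit (b : R)
    · obtain ⟨b', hb'⟩ := hb.exists_right_inv
      refine ⟨a * b', ?_⟩
      rw [map_mul, ← hω, mul_assoc, ← map_mul, hb', map_one, mul_one]
    exfalso
    obtain ⟨π₁, hπ₁, hπb⟩ := WfDvdMonoid.exists_irreducible_factor hb (nonZeroDivisors.ne_zero b.2)
    have hπp : Prime π₁ := irreducible_iff_prime.1 hπ₁
    let J : Ideal R := Ideal.span {π₁, x}
    have hJm : J ≤ maximalIdeal R := Ideal.span_le.2 (Set.insert_subset_iff.2
      ⟨(IsLocalRing.mem_maximalIdeal _).2 hπ₁.not_isUnit, Set.singleton_subset_iff.2 hx⟩)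
    obtain ⟨p, hp⟩ := Ideal.nonempty_minimalPrimes (I := J)
      (fun h => (maximalIdeal.isMaximal R).ne_top (top_le_iff.1 (h ▸ hJm)))
    haveI : p.IsPrime := hp.1.1
    have hpm : p ≠ maximalIdeal R := fun h => hdim (by
      rw [← h]
      refine (Ideal.height_le_spanRank_toENat_of_mem_minimalPrimes J p hp).trans ?_
      refine (Cardinal.toENat.monotone' (Submodule.spanRank_span_le_card _)).trans ?_
      refine le_trans (le_of_eq ?_) ((Set.encard_insert_le {x} π₁).trans (by rw [Set.encard_singleton]; rfl))
      rfl)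
    obtain ⟨ψ, hψ, hψφ⟩ := hloc p hpm
    obtain ⟨χp, hχp⟩ := exists_ringHom hW ψ
      (hmemW p (hp.1.2 (Ideal.subset_span (by simp))) ψ hψ hψφ)
    have : χp ≫ CommRingCat.ofHom (jLoc K p) = χ := Spec.map_injective (by
      rw [← cancel_mono hW.fromSpec, Spec.map_comp, Category.assoc, hχp, hψφ, hχ])
    obtain ⟨r', s', hrs⟩ := IsLocalization.exists_mk'_eq p.primeCompl (χp.hom w)
    have h2 : χ.hom w * algebraMap R K (s' : R) = algebraMap R K r' := by
      have h4 := congrArg (jLoc K p) (IsLocalization.mk'_spec (Localization.AtPrime p) r' s')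
      rw [hrs, map_mul, IsLocalization.lift_eq, IsLocalization.lift_eq] at h4
      rw [← this]
      exact h4
    have h3 : a * (s' : R) = r' * (b : R) := IsFractionRing.injective R K (by
      rw [map_mul, map_mul, ← hω, ← h2]; ring)
    rcases hπp.dvd_or_dvd (show π₁ ∣ a * s' from h3 ▸ dvd_mul_of_dvd_right hπb r') with h | h
    · exact hπ₁.not_isUnit (hab h hπb)
    · exact s'.2 (hp.1.2 (Ideal.mem_span_pair.2 (by obtain ⟨d, hd⟩ := h; exact ⟨d, 0, by rw [hd]; ring⟩)))
  choose g hg using hmem
  have hinj := IsFractionRing.injective R K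
  let gh : Γ(A.left, W) →+* R :=
    { toFun := g
      map_one' := hinj (by rw [hg, map_one, map_one])
      map_mul' := fun a b => hinj (by rw [hg, map_mul, map_mul, hg, hg])
      map_zero' := hinj (by rw [hg, map_zero, map_zero])
      map_add' := fun a b => hinj (by rw [hg, map_add, map_add, hg, hg]) }
  let ψ : Spec (CommRingCat.of R) ⟶ A.left := Spec.map (CommRingCat.ofHom gh) ≫ hW.fromSpec
  have hψφ : Spec.map (CommRingCat.ofHom (algebraMap R K)) ≫ ψ = φ := by
    have : CommRingCat.ofHom gh ≫ CommRingCat.ofHom (algebraMap R K) = χ := by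
      ext b; exact hg b
    rw [← Category.assoc, ← Spec.map_comp, this, hχ]
  refine ⟨ψ, ?_, hψφ⟩
  have hψW : ψ (closedPoint R) ∈ W := by
    have : ψ (closedPoint R) ∈ Set.range hW.fromSpec := ⟨_, (Scheme.Hom.comp_apply _ _ _).symm⟩
    rwa [hW.range_fromSpec] at this
  refine ext_of_injective (algebraMap R K) hinj hS₀ _ _ ?_ hS₀m ?_
  · rw [Scheme.Hom.comp_apply]; exact hWS₀ hψW
  · rw [← Category.assoc, hψφ, hφ]

end Groth.Agent.H26.AbExt
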