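import Mathlib

/-!
# Quadratic transforms along a discrete valuation

If a local domain with two-generated maximal ideal is dominated by a discrete valuation ring of its
fraction field, the residue field of the valuation ring is algebraic over that of the domain or
purely transcendental over an algebraic subextension.
-/

set_option autoImplicit false

universe u v

open Polynomial IsLocalRing IntermediateField

namespace Groth.Agent.H26.AbExt.Quad

variable {V : Type u} [CommRing V] [IsDomain V] [IsLocalRing V]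
variable {κ : Type v} [Field κ] (res : V →+* κ) (k : Subfield κ)

/-- A subring of `V` which is local, dominated, has a two-generated maximal ideal and algebraic
residue field over `k`. -/
structure Good (T : Subring V) : Prop where
  unit_mem : ∀ a ∈ T, ∀ b, a * b = 1 → b ∈ T
  gen : ∃ x ∈ T, ∃ y ∈ T, res x = 0 ∧ res y = 0 ∧
    ∀ a ∈ T, res a = 0 → ∃ c ∈ T, ∃ d ∈ T, a = c * x + d * y
  base : ∀ c ∈ k, ∃ a ∈ T, res a = c
  alg : ∀ a ∈ T, IsAlgebraic k (res a)

/-- The purely transcendental alternative. -/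
def IsRational (k : Subfield κ) : Prop :=
  ∃ (L : IntermediateField k κ) (t : κ), Algebra.IsAlgebraic k L ∧ Transcendental L t ∧
    ∀ u : κ, ∃ r s : L[X], aeval t s ≠ 0 ∧ u = aeval t r / aeval t s

variable {res k}

variable (hres : Function.Surjective res)
include hres

theorem isUnit_iff {a : V} : IsUnit a ↔ res a ≠ 0 := by
  constructor
  · exact fun h => (h.map res).ne_zero
  · intro h
    by_contra ha
    haveI := RingHom.ker_isMaximal_of_surjective res hres
    have hk : RingHom.ker res = maximalIdeal V := IsLocalRing.eq_maximalIdeal inferInstance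
    exact h (RingHom.mem_ker.1 (hk ▸ ha))

/-- The residue field of a good subring. -/
def resField {T : Subring V} (hT : Good res k T) : IntermediateField k κ where
  carrier := res '' T
  mul_mem' := by rintro _ _ ⟨a, ha, rfl⟩ ⟨b, hb, rfl⟩; exact ⟨a * b, mul_mem ha hb, map_mul ..⟩
  one_mem' := ⟨1, one_mem T, map_one res⟩
  add_mem' := by rintro _ _ ⟨a, ha, rfl⟩ ⟨b, hb, rfl⟩; exact ⟨a + b, add_mem ha hb, map_add ..⟩
  zero_mem' := ⟨0, zero_mem T, map_zero res⟩
  algebraMap_mem' c := hT.base _ c.2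
  inv_mem' := by
    rintro _ ⟨a, ha, rfl⟩
    by_cases h : res a = 0
    · rw [h, inv_zero]; exact ⟨0, zero_mem T, map_zero res⟩
    · obtain ⟨b, hb⟩ := ((isUnit_iff hres).2 h).exists_right_inv
      refine ⟨b, hT.unit_mem a ha b hb, eq_inv_of_mul_eq_one_right ?_⟩
      rw [← map_mul, hb, map_one]

theorem rational_or_algebraic [ValuationRing V] [WfDvdMonoid V]
    (T₀ : Subring V) (h₀ : Good res k T₀)
    (hfrac : ∀ w : V, ∃ g ∈ T₀, g ≠ 0 ∧ w * g ∈ T₀) :
    (∀ u : κ, IsAlgebraic k u) ∨ IsRational k := by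
  classical
  by_cases hR : IsRational k
  · exact Or.inr hR
  refine Or.inl fun u => ?_
  obtain ⟨w, rfl⟩ := hres u
  obtain ⟨g, hg, hg0, hwg⟩ := hfrac w
  suffices ∀ g : V, ∀ T : Subring V, Good res k T → T₀ ≤ T → g ∈ T → g ≠ 0 → w * g ∈ T →
      IsAlgebraic k (res w) from this g T₀ h₀ le_rfl hg hg0 hwg
  intro g
  induction g using (wellFounded_dvdNotUnit (α := V)).induction with
  | h g ih =>
  intro T hT hle hg hg0 hwg
  by_cases hgu : IsUnit g
  · obtain ⟨b, hb⟩ := hgu.exists_right_inv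
    have : w = (w * g) * b := by rw [mul_assoc, hb, mul_one]
    rw [this]
    exact hT.alg _ (mul_mem hwg (hT.unit_mem g hg b hb))
  have hgres : res g = 0 := by_contra fun h => hgu ((isUnit_iff hres).2 h)
  obtain ⟨x₀, hx₀, y₀, hy₀, hxr₀, hyr₀, hgen₀⟩ := hT.gen
  obtain ⟨x, hx, y, hy, z, hxr, hyz, hgen⟩ : ∃ x ∈ T, ∃ y ∈ T, ∃ z : V, res x = 0 ∧ y = x * z ∧
      ∀ a ∈ T, res a = 0 → ∃ c ∈ T, ∃ d ∈ T, a = c * x + d * y := by
    rcases ValuationRing.dvd_total x₀ y₀ with ⟨z, hz⟩ | ⟨z, hz⟩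
    · exact ⟨x₀, hx₀, y₀, hy₀, z, hxr₀, hz, hgen₀⟩
    · refine ⟨y₀, hy₀, x₀, hx₀, z, hyr₀, hz, fun a ha ha0 => ?_⟩
      obtain ⟨c, hc, d, hd, rfl⟩ := hgen₀ a ha ha0
      exact ⟨d, hd, c, hc, add_comm _ _⟩
  let ev : T[X] →+* V := Polynomial.eval₂RingHom T.subtype z
  let Tz : Subring V := ev.range
  let T₁ : Subring V :=
    { carrier := {a | ∃ p ∈ Tz, ∃ b ∈ Tz, ∃ c, b * c = 1 ∧ a = p * c}
      mul_mem' := by
        rintro _ _ ⟨p, hp, b, hb, c, hbc, rfl⟩ ⟨p', hp', b', hb', c', hbc', rfl⟩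
        exact ⟨p * p', mul_mem hp hp', b * b', mul_mem hb hb', c * c', by linear_combination b' * c' * hbc + hbc', by ring⟩
      one_mem' := ⟨1, one_mem _, 1, one_mem _, 1, mul_one 1, (mul_one 1).symm⟩
      add_mem' := by
        rintro _ _ ⟨p, hp, b, hb, c, hbc, rfl⟩ ⟨p', hp', b', hb', c', hbc', rfl⟩
        refine ⟨p * b' + p' * b, add_mem (mul_mem hp hb') (mul_mem hp' hb), b * b', mul_mem hb hb',
          c * c', by linear_combination b' * c' * hbc + hbc', ?_⟩
        linear_combination -p * c * hbc' - p' * c' * hbc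
      zero_mem' := ⟨0, zero_mem _, 1, one_mem _, 1, mul_one 1, (zero_mul 1).symm⟩
      neg_mem' := by
        rintro _ ⟨p, hp, b, hb, c, hbc, rfl⟩
        exact ⟨-p, neg_mem hp, b, hb, c, hbc, by ring⟩ }
  have hTz : ∀ a ∈ T, a ∈ Tz := fun a ha => ⟨C ⟨a, ha⟩, by simp [ev]⟩
  have hzz : z ∈ Tz := ⟨X, by simp [ev]⟩
  have hz1 : ∀ a ∈ Tz, a ∈ T₁ := fun a ha => ⟨a, ha, 1, one_mem _, 1, mul_one 1, (mul_one a).symm⟩
  have hT1 : ∀ a ∈ T, a ∈ T₁ := fun a ha => hz1 a (hTz a ha)
  have hdiv : ∀ a ∈ T, res a = 0 → ∃ e ∈ Tz, a = x * e := by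
    intro a ha ha0
    obtain ⟨c, hc, d, hd, rfl⟩ := hgen a ha ha0
    exact ⟨c + d * z, add_mem (hTz c hc) (mul_mem (hTz d hd) hzz), by rw [hyz]; ring⟩
  obtain ⟨g', hg', hgeq⟩ := hdiv g hg hgres
  obtain ⟨f', hf', hfeq⟩ := hdiv (w * g) hwg (by rw [map_mul, hgres, mul_zero])
  have hx0 : x ≠ 0 := fun h => hg0 (by rw [hgeq, h, zero_mul])
  have hg'0 : g' ≠ 0 := fun h => hg0 (by rw [hgeq, h, mul_zero])
  have hwg' : w * g' = f' := mul_left_cancel₀ hx0 (by rw [← hfeq, hgeq]; ring)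
  let L := resField hres hT
  let t := res z
  let r : T →+* L := (res.comp T.subtype).codRestrict L.toSubalgebra.toSubring fun a => ⟨a.1, a.2, rfl⟩
  have hrsurj : Function.Surjective r := fun l => by
    obtain ⟨a, ha, hal⟩ := l.2
    exact ⟨⟨a, ha⟩, Subtype.ext hal⟩
  have hmap : ∀ P : T[X], res (ev P) = aeval t (P.map r) := by
    intro P
    simp only [ev, coe_eval₂RingHom, Polynomial.hom_eval₂, aeval_def, Polynomial.eval₂_map]
    rfl
  have hker : ∀ P : T[X], P.map r = 0 → ∃ e ∈ Tz, ev P = x * e := by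
    intro P hP
    have h' : ∀ n, ∃ e ∈ Tz, ((P.coeff n : T) : V) = x * e := fun n =>
      hdiv _ (P.coeff n).2 (by
        have := congrArg (fun Q => ((Q.coeff n : L) : κ)) hP
        rw [Polynomial.coeff_map, Polynomial.coeff_zero] at this
        exact this)
    choose e he hee using h'
    refine ⟨∑ i ∈ Finset.range (P.natDegree + 1), e i * z ^ i,
      sum_mem fun i _ => mul_mem (he i) (pow_mem hzz i), ?_⟩
    simp only [ev, coe_eval₂RingHom, Polynomial.eval₂_eq_sum_range, Subring.coe_subtype, Finset.mul_sum]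
    exact Finset.sum_congr rfl fun i _ => by rw [hee i]; ring
  have halgL : Algebra.IsAlgebraic k L := ⟨fun l => by
    obtain ⟨a, ha, hal⟩ := l.2
    rw [← isAlgebraic_algebraMap_iff (A := κ) (algebraMap L κ).injective]
    show IsAlgebraic k (l : κ)
    rw [← hal]
    exact hT.alg a ha⟩
  by_cases ht : IsAlgebraic L t
  · -- the residue of `z` is algebraic
    obtain ⟨H, hH⟩ := Polynomial.map_surjective r hrsurj (minpoly L t)
    have hTzres : ∀ p ∈ Tz, IsAlgebraic k (res p) := by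
      rintro _ ⟨P, rfl⟩
      haveI : Algebra.IsAlgebraic L L⟮t⟯ :=
        IntermediateField.isAlgebraic_adjoin_simple ht.isIntegral
      suffices IsAlgebraic L (res (ev P)) from this.restrictScalars_of_isIntegral k
      rw [hmap]
      have : aeval t (P.map r) ∈ L⟮t⟯ :=
        algebra_adjoin_le_adjoin L _ (Polynomial.aeval_mem_adjoin_singleton L t)
      exact isAlgebraic_algebraMap_iff (A := κ) (algebraMap L⟮t⟯ κ).injective |>.2
        (Algebra.IsAlgebraic.isAlgebraic (⟨_, this⟩ : L⟮t⟯))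
    have hgood : Good res k T₁ := by
      refine ⟨?_, ⟨x, hT1 x hx, ev H, hz1 _ ⟨H, rfl⟩, hxr, ?_, ?_⟩, ?_, ?_⟩
      · rintro _ ⟨p, hp, b, hb, c, hbc, rfl⟩ a' ha'
        refine ⟨b, hb, p, hp, c * a', by linear_combination ha', ?_⟩
        linear_combination -a' * hbc
      · rw [hmap, hH, minpoly.aeval]
      · rintro _ ⟨p, ⟨P, rfl⟩, b, hb, c, hbc, rfl⟩ h0
        have hb' : res c ≠ 0 := fun h => by
          have := congrArg res hbc
          rw [map_mul, h, mul_zero, map_one] at this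
          exact zero_ne_one this
        rw [map_mul, mul_eq_zero, or_iff_left hb', hmap] at h0
        obtain ⟨Q', hQ'⟩ := minpoly.dvd L t h0
        obtain ⟨Q, rfl⟩ := Polynomial.map_surjective r hrsurj Q'
        obtain ⟨e, he, hee⟩ := hker (P - H * Q) (by
          rw [Polynomial.map_sub, Polynomial.map_mul, hH, hQ', sub_self])
        refine ⟨e * c, ⟨e, he, b, hb, c, hbc, rfl⟩, ev Q * c, ⟨_, ⟨Q, rfl⟩, b, hb, c, hbc, rfl⟩, ?_⟩
        rw [map_sub, map_mul] at hee
        linear_combination c * hee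
      · exact fun c hc => (hT.base c hc).imp fun a ha => ⟨hT1 a ha.1, ha.2⟩
      · rintro _ ⟨p, hp, b, hb, c, hbc, rfl⟩
        have : res c = (res b)⁻¹ := eq_inv_of_mul_eq_one_right (by rw [← map_mul, hbc, map_one])
        rw [map_mul, this]
        exact (hTzres p hp).mul (hTzres b hb).inv
    refine ih g' ⟨hg'0, x, fun h => (isUnit_iff hres).1 h hxr, by rw [hgeq, mul_comm]⟩ T₁ hgood
      (fun a ha => hT1 a (hle ha)) (hz1 _ hg') hg'0 (hwg' ▸ hz1 _ hf')
  · -- transcendental: the residue field is `L(t)`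
    refine absurd ⟨L, t, halgL, ht, fun u => ?_⟩ hR
    obtain ⟨w', rfl⟩ := hres u
    obtain ⟨g₁, hg₁, hg₁0, hwg₁⟩ := hfrac w'
    have hdiv1 : ∀ a ∈ T₁, res a = 0 → ∃ e ∈ T₁, a = x * e := by
      rintro _ ⟨p, ⟨P, rfl⟩, b, hb, c, hbc, rfl⟩ h0
      have hb' : res c ≠ 0 := fun h => by
        have := congrArg res hbc
        rw [map_mul, h, mul_zero, map_one] at this
        exact zero_ne_one this
      rw [map_mul, mul_eq_zero, or_iff_left hb', hmap] at h0
      obtain ⟨e, he, hee⟩ := hker P (by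
        by_contra hne
        exact ht ⟨_, hne, h0⟩)
      exact ⟨e * c, ⟨e, he, b, hb, c, hbc, rfl⟩, by rw [hee, mul_assoc]⟩
    suffices ∀ g : V, g ∈ T₁ → g ≠ 0 → w' * g ∈ T₁ → w' ∈ T₁ by
      obtain ⟨p, ⟨P, rfl⟩, b, ⟨B, rfl⟩, c, hbc, hw⟩ :=
        this g₁ (hT1 _ (hle hg₁)) hg₁0 (hT1 _ (hle hwg₁))
      refine ⟨P.map r, B.map r, ?_, ?_⟩
      · rw [← hmap]
        exact fun h => zero_ne_one (α := κ) (by rw [← map_one res, ← hbc, map_mul, h, zero_mul])
      · rw [← hmap, ← hmap, hw, map_mul, div_eq_mul_inv,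
          eq_inv_of_mul_eq_one_right (show res (ev B) * res c = 1 by rw [← map_mul, hbc, map_one])]
    intro g
    induction g using (wellFounded_dvdNotUnit (α := V)).induction with
    | h g ih₁ =>
    intro hg hg0 hwg
    by_cases hgu : IsUnit g
    · obtain ⟨p, hp, b, hb, c, hbc, rfl⟩ := hg
      obtain ⟨i, hi⟩ := hgu.exists_right_inv
      have hi' : i ∈ T₁ := ⟨b, hb, p, hp, c * i, by linear_combination hi, by
        linear_combination -i * hbc⟩
      have : w' = (w' * (p * c)) * i := by rw [mul_assoc, hi, mul_one]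
      rw [this]
      exact mul_mem hwg hi'
    have hg0' : res g = 0 := by_contra fun h => hgu ((isUnit_iff hres).2 h)
    obtain ⟨e, he, hge⟩ := hdiv1 g hg hg0'
    obtain ⟨e', he', hwe⟩ := hdiv1 (w' * g) hwg (by rw [map_mul, hg0', mul_zero])
    have he0 : e ≠ 0 := fun h => hg0 (by rw [hge, h, mul_zero])
    refine ih₁ e ⟨he0, x, fun h => (isUnit_iff hres).1 h hxr, by rw [hge, mul_comm]⟩ he he0 ?_
    rw [show w' * e = e' from mul_left_cancel₀ hx0 (by rw [← hwe, hge]; ring)]
    exact he'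

end Groth.Agent.H26.AbExt.Quad
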