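import Groth.Agent.H26.AbExt.Local
import Groth.Agent.RegLoc6.Serre

/-!
# Generic sections of abelian schemes over regular local rings extend
-/

set_option autoImplicit false
set_option linter.style.haveILetI false

universe u

open CategoryTheory CategoryTheory.Limits AlgebraicGeometry IsLocalRing

namespace Groth.Agent.H26.AbExt

theorem spanFinrank_localization_lt {R : Type u} [CommRing R] [IsRegularLocalRing R] (p : Ideal R)
    [p.IsPrime] (hp : p ≠ maximalIdeal R) :
    (maximalIdeal (Localization.AtPrime p)).spanFinrank < (maximalIdeal R).spanFinrank := by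
  haveI := RegLoc6.isRegularLocalRing_localization R p
  have h1 := (isRegularLocalRing_iff (Localization.AtPrime p)).mp inferInstance
  rw [IsLocalization.AtPrime.ringKrullDim_eq_height p (Localization.AtPrime p)] at h1
  have h2 := (isRegularLocalRing_iff R).mp ‹_›
  rw [← maximalIdeal_height_eq_ringKrullDim] at h2
  have h3 := Ideal.height_add_one_le_of_lt_of_isPrime
    (lt_of_le_of_ne (IsLocalRing.le_maximalIdeal ‹p.IsPrime›.ne_top) hp)
  have h1' : ((maximalIdeal (Localization.AtPrime p)).spanFinrank : ℕ∞) = p.height := by
    exact_mod_cast h1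
  have h2' : ((maximalIdeal R).spanFinrank : ℕ∞) = (maximalIdeal R).height := by
    exact_mod_cast h2
  rw [← h1', ← h2'] at h3
  have : (maximalIdeal (Localization.AtPrime p)).spanFinrank + 1 ≤
      (maximalIdeal R).spanFinrank := by exact_mod_cast h3
  omega

variable {S : Scheme.{u}} (A : Over S) [GrpObj A] [IsProper A.hom] [Smooth A.hom]
  [GeometricallyConnected A.hom]

/-- Generic sections of abelian schemes extend over regular local rings. -/
theorem extends_regular : ∀ (n : ℕ) (R : Type u) [CommRing R] [IsRegularLocalRing R],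
    (maximalIdeal R).spanFinrank ≤ n → ∀ [IsDomain R] (K : Type u) [Field K] [Algebra R K]
      [IsFractionRing R K] (t : Spec (CommRingCat.of R) ⟶ S) (φ : Spec (CommRingCat.of K) ⟶ A.left),
      φ ≫ A.hom = Spec.map (CommRingCat.ofHom (algebraMap R K)) ≫ t →
      Extends A R (algebraMap R K) t φ := by
  intro n
  induction n using Nat.strong_induction_on with
  | _ n ih =>
  intro R _ _ hn _ K _ _ _ t φ hφ
  have hspan := (maximalIdeal R).fg_of_isNoetherianRing
  set d := (maximalIdeal R).spanFinrank with hd
  obtain ⟨s, hs, hscard⟩ : ∃ s : Set R, Ideal.span s = maximalIdeal R ∧ s.ncard = d ∧ s.Finite :=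
    ⟨(maximalIdeal R).generators, Submodule.span_generators _, Submodule.FG.generators_ncard hspan,
      Submodule.FG.finite_generators hspan⟩
  -- the extensions at non-maximal primes
  have hloc : ∀ (p : Ideal R) [p.IsPrime], p ≠ maximalIdeal R →
      Extends A (Localization.AtPrime p) (jLoc K p)
        (Spec.map (CommRingCat.ofHom (algebraMap R (Localization.AtPrime p))) ≫ t) φ := by
    intro p _ hp
    haveI := RegLoc6.isRegularLocalRing_localization R p
    haveI : IsDomain (Localization.AtPrime p) :=
      IsLocalization.isDomain_localization p.primeCompl_le_nonZeroDivisors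
    letI : Algebra (Localization.AtPrime p) K := (jLoc K p).toAlgebra
    haveI : IsScalarTower R (Localization.AtPrime p) K :=
      IsScalarTower.of_algebraMap_eq fun r => (IsLocalization.lift_eq _ r).symm
    haveI : IsFractionRing (Localization.AtPrime p) K :=
      IsFractionRing.isFractionRing_of_isDomain_of_isLocalization p.primeCompl _ _
    have hlt := spanFinrank_localization_lt p hp
    refine ih _ (hlt.trans_le hn) (Localization.AtPrime p) le_rfl K _ φ ?_
    rw [hφ, ← Category.assoc, ← Spec.map_comp]
    congr 2
    ext r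
    exact (IsLocalization.lift_eq _ r).symm
  by_cases h2 : d ≤ 1
  · -- a valuation ring
    have hprin : (maximalIdeal R).IsPrincipal := by
      rcases Nat.le_one_iff_eq_zero_or_eq_one.1 h2 with h | h
      · rw [h, Set.ncard_eq_zero hscard.2] at hscard
        refine ⟨0, ?_⟩
        rw [← hs, hscard.1]
        simp
      · obtain ⟨a, rfl⟩ := Set.ncard_eq_one.1 (hscard.1.trans h)
        exact ⟨a, hs.symm⟩
    haveI : ValuationRing R :=
      ((tfae_of_isNoetherianRing_of_isLocalRing_of_isDomain (R := R)).out 4 1).1 hprin
    exact extends_of_valuationRing A t φ hφ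
  haveI := (Groth.Agent.S2821.result R).2
  have hht : (maximalIdeal R).height = (d : ℕ∞) := by
    have h2' := (isRegularLocalRing_iff R).mp ‹_›
    rw [← maximalIdeal_height_eq_ringKrullDim] at h2'
    exact_mod_cast h2'.symm
  have hne : maximalIdeal R ≠ ⊥ := fun h => by
    apply h2
    rw [hd, h]
    simp
  by_cases h3 : d = 2
  · haveI := RegLoc6.isIntegrallyClosed_of_isRegularLocalRing R
    obtain ⟨a, b, -, rfl⟩ := Set.ncard_eq_two.1 (hscard.1.trans h3)
    exact extends_of_two_generators A a b hs.symm hne t φ hφ hloc
  · have hnf : ¬ IsField R := fun h => hne (IsLocalRing.isField_iff_maximalIdeal_eq.1 h)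
    obtain ⟨x, hx, hx2⟩ := SetLike.not_le_iff_exists.mp (RegLoc6.maximalIdeal_sq_ne hnf)
    obtain ⟨hreg', hdim'⟩ := RegLoc6.isRegularLocalRing_quot_and hx hx2
    haveI := hreg'
    haveI := RegLoc6.isDomain_of_isRegularLocalRing (R ⧸ Ideal.span {x})
    have hlt : (maximalIdeal (R ⧸ Ideal.span {x})).spanFinrank < d := by
      have := RegLoc6.spanFinrank_quot_le hx hx2
      omega
    refine extends_of_hyperplane A (fun h => ?_) x hx ?_ t φ hφ hloc fun φ' hφ' =>
      ih _ (hlt.trans_le hn) _ le_rfl _ _ φ' hφ'
    · rw [hht] at h
      have : d ≤ 2 := by exact_mod_cast h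
      omega
    · intro h
      have h1 : (maximalIdeal R).spanFinrank ≤ ({x} : Set R).ncard := by
        rw [← h]
        exact Submodule.spanFinrank_span_le_ncard_of_finite (Set.finite_singleton x)
      rw [Set.ncard_singleton, ← hd] at h1
      omega

end Groth.Agent.H26.AbExt
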